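import Mathlib

/-! A parity lemma on integer matrices with `N * N = 4 * N`. -/

namespace CF.H9

open Finset

variable {ι : Type*} [Fintype ι]

theorem zero_or_one {s : Finset ι} {t : ι → ℤ} (h : ∑ j ∈ s, t j ^ 2 = ∑ j ∈ s, t j) :
    ∀ j ∈ s, t j = 0 ∨ t j = 1 := by
  have h0 : ∑ j ∈ s, (t j ^ 2 - t j) = 0 := by rw [sum_sub_distrib, h, sub_self]
  intro j hj
  have := (sum_eq_zero_iff_of_nonneg (fun j _ => by
    rcases le_or_gt (t j) 0 with a | a <;> nlinarith)).1 h0 j hj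
  have h2 : t j * (t j - 1) = 0 := by linear_combination this
  rcases mul_eq_zero.1 h2 with a | a
  · exact Or.inl a
  · exact Or.inr (by linarith)

theorem par [DecidableEq ι] {d : ι → ℤ} {N : ι → ι → ℤ} (hs : ∀ i j, N i j = N j i)
    (hq : ∀ i l, ∑ j, N i j * N j l = 4 * N i l) (hd : ∀ i, ∑ j, N i j * d j = 4 * d i)
    (E : Finset ι) (hE : ∀ j, j ∈ E ↔ Even (d j)) (i : ι) : Even (∑ j ∈ E, N i j) := by
  have h1 : Even (∑ j, (N i j * N j i - N i j * d j)) := by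
    rw [sum_sub_distrib, hq, hd]; exact ⟨2 * (N i i - d i), by ring⟩
  have h2 : Even (∑ j, (N i j * N j i - N i j * d j - if j ∈ E then N i j else 0)) := by
    refine Finset.even_sum _ fun j _ => ?_
    rw [← hs i j]
    split_ifs with h
    · obtain ⟨a, ha⟩ := (hE j).1 h
      have := Int.even_mul_pred_self (N i j)
      rw [show N i j * N i j - N i j * d j - N i j = N i j * (N i j - 1) - (N i j * a + N i j * a) by
        rw [ha]; ring]
      exact this.sub ⟨_, rfl⟩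
    · obtain ⟨a, ha⟩ := Int.not_even_iff_odd.1 fun h' => h ((hE j).2 h')
      have := Int.even_mul_pred_self (N i j)
      rw [show N i j * N i j - N i j * d j - 0 = N i j * (N i j - 1) - (N i j * a + N i j * a) by
        rw [ha]; ring]
      exact this.sub ⟨_, rfl⟩
  rw [sum_sub_distrib, sum_ite_mem, univ_inter] at h2
  have := h1.sub h2
  rwa [sub_sub_cancel] at this

theorem row [DecidableEq ι] {d : ι → ℤ} {N : ι → ι → ℤ} (hs : ∀ i j, N i j = N j i)
    (hq : ∀ i l, ∑ j, N i j * N j l = 4 * N i l) (hd : ∀ i, ∑ j, N i j * d j = 4 * d i)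
    (E : Finset ι) (h1 : ∀ j ∉ E, d j ^ 2 = 1) {a : ι} {ε : ℤ} (hε : ε ^ 2 = 1) (ha : d a = 2 * ε)
    (haa : N a a = 2) (h2 : ∑ j ∈ E, N a j ^ 2 = 4) (h3 : ∑ j ∈ E, N a j * d j = 2 * d a) :
    ∑ j ∈ Eᶜ, ε * N a j * d j = 4 ∧ ∀ j ∈ Eᶜ, ε * N a j * d j = 0 ∨ ε * N a j * d j = 1 := by
  have a1 := hq a a
  have a2 := hd a
  rw [← sum_add_sum_compl E] at a1 a2
  have a3 : ∑ j ∈ E, N a j * N j a = 4 := by
    rw [← h2]; exact sum_congr rfl fun j _ => by rw [← hs a j, sq]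
  have a4 : ∑ j ∈ Eᶜ, ε * N a j * d j = 4 := by
    have : ∑ j ∈ Eᶜ, ε * N a j * d j = ε * ∑ j ∈ Eᶜ, N a j * d j := by
      rw [mul_sum]; exact sum_congr rfl fun j _ => by ring
    rw [this, show ∑ j ∈ Eᶜ, N a j * d j = 4 * ε by linarith]
    linear_combination 4 * hε
  refine ⟨a4, zero_or_one ?_⟩
  rw [a4, show (4 : ℤ) = ∑ j ∈ Eᶜ, N a j * N j a by linarith]
  refine sum_congr rfl fun j hj => ?_
  rw [← hs a j, mul_pow, mul_pow, hε, h1 j (mem_compl.1 hj)]; ring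

theorem sq_eq_one_iff_aux {x : ℤ} (h : x ^ 2 = 1) : x = 1 ∨ x = -1 :=
  Int.eq_one_or_neg_one_of_mul_eq_one (by rw [← h, sq])

theorem sgn {x : ℤ} (h : x ^ 2 = 4) : ∃ ε : ℤ, ε ^ 2 = 1 ∧ x = 2 * ε := by
  have : (x - 2) * (x + 2) = 0 := by linear_combination h
  rcases mul_eq_zero.1 this with a | a
  · exact ⟨1, by norm_num, by linarith⟩
  · exact ⟨-1, by norm_num, by linarith⟩

theorem two [DecidableEq ι] {d : ι → ℤ} {N : ι → ι → ℤ} (hs : ∀ i j, N i j = N j i)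
    (hq : ∀ i l, ∑ j, N i j * N j l = 4 * N i l) (hd : ∀ i, ∑ j, N i j * d j = 4 * d i)
    {a b : ι} (hab : a ≠ b) (hE : ∀ j, j ∈ ({a, b} : Finset ι) ↔ Even (d j))
    (h1 : ∀ j ∉ ({a, b} : Finset ι), d j ^ 2 = 1) (ha : d a ^ 2 = 4) (hb : d b ^ 2 = 4)
    (haa : N a a = 2) (hbb : N b b = 2) :
    N a b * d b = 2 * d a ∧ ∀ j ∉ ({a, b} : Finset ι), N a j = 0 := by
  have p1 := par hs hq hd _ hE
  simp only [sum_pair hab] at p1
  have a1 := hq a a
  rw [← sum_add_sum_compl {a, b}, sum_pair hab, haa, ← hs a b] at a1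
  have n1 : ∀ j ∈ ({a, b} : Finset ι)ᶜ, 0 ≤ N a j * N j a := fun j _ => by
    rw [← hs a j]; exact mul_self_nonneg _
  have n2 := sum_nonneg n1
  by_cases hc : N a b = 0
  · exfalso
    obtain ⟨ε, hε, ha'⟩ := sgn ha
    obtain ⟨η, hη, hb'⟩ := sgn hb
    obtain ⟨r1, r2⟩ := row hs hq hd _ h1 hε ha' haa (by rw [sum_pair hab, haa, hc]; norm_num)
      (by rw [sum_pair hab, haa, hc]; ring)
    obtain ⟨-, r4⟩ := row hs hq hd _ h1 hη hb' hbb
      (by rw [sum_pair hab, hbb, ← hs a b, hc]; norm_num)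
      (by rw [sum_pair hab, hbb, ← hs a b, hc]; ring)
    have a2 := hq a b
    rw [← sum_add_sum_compl {a, b}, sum_pair hab, hc] at a2
    have a3 : ∑ j ∈ ({a, b} : Finset ι)ᶜ, ε * N a j * d j =
        ε * η * ∑ j ∈ ({a, b} : Finset ι)ᶜ, N a j * N j b := by
      rw [mul_sum]
      refine sum_congr rfl fun j hj => ?_
      have e1 := h1 j (mem_compl.1 hj)
      have e2 : ε * η * (N a j * N j b) = (ε * N a j * d j) * (η * N b j * d j) := by
        rw [hs j b]; linear_combination (-(ε * η * N a j * N b j)) * e1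
      rw [e2]
      obtain ⟨k, hk⟩ := p1 j
      rw [hs j a, hs j b] at hk
      have o1 : ε = 1 ∨ ε = -1 := sq_eq_one_iff_aux hε
      have o2 : η = 1 ∨ η = -1 := sq_eq_one_iff_aux hη
      have o3 : d j = 1 ∨ d j = -1 := sq_eq_one_iff_aux e1
      rcases r2 j hj with x | x
      · rw [x, zero_mul]
      · rcases r4 j hj with y | y
        · exfalso
          rcases o1 with o1 | o1 <;> rcases o2 with o2 | o2 <;> rcases o3 with o3 | o3 <;>
            rw [o1, o3] at x <;> rw [o2, o3] at y <;> omega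
        · rw [y, mul_one]
    rw [r1, show ∑ j ∈ ({a, b} : Finset ι)ᶜ, N a j * N j b = 0 by linarith] at a3
    simp at a3
  · obtain ⟨k, hk⟩ := p1 a
    have h4 : 4 ≤ N a b * N a b := by
      have : N a b ≤ -2 ∨ 2 ≤ N a b := by omega
      rcases this with h | h <;> nlinarith
    have h5 : ∀ j ∉ ({a, b} : Finset ι), N a j = 0 := fun j hj => by
      have := (sum_eq_zero_iff_of_nonneg n1).1 (by linarith) j (mem_compl.2 hj)
      rw [← hs a j] at this
      exact mul_self_eq_zero.1 this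
    refine ⟨?_, h5⟩
    have a2 := hd a
    rw [← sum_add_sum_compl {a, b}, sum_pair hab, haa,
      sum_eq_zero fun j hj => by rw [h5 j (mem_compl.1 hj), zero_mul]] at a2
    linarith

theorem e9 (d : ι → ℤ) (N N2 : ι → ι → ℤ) (hs : ∀ i j, N i j = N j i)
    (hs2 : ∀ i j, N2 i j = N2 j i) (hq : ∀ i l, ∑ j, N i j * N j l = 4 * N i l)
    (hq2 : ∀ i l, ∑ j, N2 i j * N2 j l = 4 * N2 i l) (hd : ∀ i, ∑ j, N i j * d j = 4 * d i)
    (hd2 : ∀ i, ∑ j, N2 i j * d j = 4 * d i) (hx : ∀ i, ∑ j, N i j * N2 j i = d i ^ 2)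
    (h16 : ∑ i, d i ^ 2 = 16) (h8 : 8 ≤ Fintype.card ι)
    (he : ∀ i, Even (d i) → d i ^ 2 = 4 ∧ N i i = 2 ∧ N2 i i = 2) : ∀ i, Odd (d i) := by
  classical
  by_contra hne
  push Not at hne
  obtain ⟨a, ha⟩ := hne
  rw [Int.not_odd_iff_even] at ha
  set E := univ.filter fun j => Even (d j) with hE0
  have hE : ∀ j, j ∈ E ↔ Even (d j) := fun j => by simp [hE0]
  have hc : E.card + Eᶜ.card = Fintype.card ι := card_add_card_compl E
  have s1 : ∑ j ∈ E, d j ^ 2 = 4 * E.card := by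
    rw [sum_congr rfl fun j hj => (he j ((hE j).1 hj)).1, sum_const, nsmul_eq_mul, mul_comm]
  have o1 : ∀ j ∈ Eᶜ, 0 ≤ d j ^ 2 - 1 ∧ (8 : ℤ) ∣ d j ^ 2 - 1 := fun j hj => by
    have ho := Int.not_even_iff_odd.1 fun h => mem_compl.1 hj ((hE j).2 h)
    refine ⟨?_, Int.eight_dvd_sq_sub_one_of_odd ho⟩
    have : d j ≠ 0 := fun h => by rw [h] at ho; exact absurd ho (by decide)
    have : 0 < d j ^ 2 := by positivity
    omega
  have s2 : ∑ j ∈ Eᶜ, (d j ^ 2 - 1) = 16 - 4 * (E.card : ℤ) - (Eᶜ.card : ℤ) := by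
    rw [sum_sub_distrib, sum_const, nsmul_eq_mul, mul_one, ← h16, ← sum_add_sum_compl E, s1]; ring
  have s3 := sum_nonneg fun j hj => (o1 j hj).1
  have s4 := dvd_sum fun j hj => (o1 j hj).2
  have e1 : 1 ≤ E.card := card_pos.2 ⟨a, (hE a).2 ha⟩
  have s5 : ∑ j ∈ Eᶜ, (d j ^ 2 - 1) = 0 := by rw [s2] at s3 s4 ⊢; omega
  have h1 : ∀ j ∉ E, d j ^ 2 = 1 := fun j hj => by
    have := (sum_eq_zero_iff_of_nonneg fun j hj => (o1 j hj).1).1 s5 j (mem_compl.2 hj)
    linarith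
  have e2 : E.card = 1 ∨ E.card = 2 := by rw [s2] at s3; omega
  rcases e2 with e2 | e2
  · obtain ⟨b, hb⟩ := card_eq_one.1 e2
    obtain ⟨b1, b2, -⟩ := he b ((hE b).1 (by rw [hb]; simp))
    obtain ⟨ε, hε, hb'⟩ := sgn b1
    obtain ⟨r1, r2⟩ := row hs hq hd E h1 hε hb' b2 (by rw [hb, sum_singleton, b2]; norm_num)
      (by rw [hb, sum_singleton, b2])
    rw [sum_eq_zero fun j hj => (r2 j hj).resolve_right fun h => ?_] at r1
    · omega
    · have := par hs hq hd E hE j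
      rw [hb, sum_singleton, hs j b] at this
      have h2 : Even (ε * N b j * d j) := (this.mul_left _).mul_right _
      rw [h] at h2
      exact absurd h2 (by decide)
  · obtain ⟨b, c, hbc, hb⟩ := card_eq_two.1 e2
    obtain ⟨b1, b2, b3⟩ := he b ((hE b).1 (by rw [hb]; simp))
    obtain ⟨c1, c2, c3⟩ := he c ((hE c).1 (by rw [hb]; simp))
    rw [hb] at hE h1
    obtain ⟨r1, r2⟩ := two hs hq hd hbc hE h1 b1 c1 b2 c2
    obtain ⟨r3, -⟩ := two hs2 hq2 hd2 hbc hE h1 b1 c1 b3 c3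
    have a1 := hx b
    rw [← sum_add_sum_compl {b, c}, sum_pair hbc, b2, b3, b1, hs2 c b,
      sum_eq_zero fun j hj => by rw [r2 j (mem_compl.1 hj), zero_mul]] at a1
    have a2 : N b c * N2 b c * d c ^ 2 = 4 * d b ^ 2 := by
      linear_combination (N2 b c * d c) * r1 + (2 * d b) * r3
    rw [b1, c1] at a2
    omega

end CF.H9
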